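import Mathlib
import Cfsg.Prelude.Def_FischerSpaces
import Cfsg.Prelude.Def_Spor_Fi22
import Cfsg.Agent.S1685
import Cfsg.Agent.S1686

/-!
# A subgroup `Ω₇(3)` of a group isomorphic to the presented `Fi₂₂`

If `e : G ≃* Fi22` maps `D` onto the class of `a`, the preimage of `⟨b, …, i⟩` is a `D`-subgroup of index
14080, so contains a Sylow 3-subgroup.
-/

set_option autoImplicit false

namespace Cfsg.Agent.Lib.Fischer3T25

open Cfsg

theorem isConj_of_cube {G : Type*} [Group G] {x y : G} (hx : x * x = 1) (hy : y * y = 1)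
    (h : (x * y) ^ 3 = 1) : IsConj x y := by
  refine isConj_iff.2 ⟨x * y, ?_⟩
  have hxi : x⁻¹ = x := inv_eq_of_mul_eq_one_right hx
  have hyi : y⁻¹ = y := inv_eq_of_mul_eq_one_right hy
  have h' : x * y * x * y * x * y = 1 := by
    rw [← h]; simp only [pow_succ, pow_zero, one_mul, mul_assoc]
  calc x * y * x * (x * y)⁻¹ = x * y * x * y * x := by
        rw [mul_inv_rev, hxi, hyi]; simp only [mul_assoc]
    _ = x * y * x * y * x * (y * y) := by rw [hy, mul_one]
    _ = x * y * x * y * x * y * y := by simp only [mul_assoc]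
    _ = y := by rw [h', one_mul]

/-- A generator of the presented `Fi22`. -/
abbrev genImg (z : Spor.Fi22.Gen) : Spor.Fi22 :=
  PresentedGroup.mk (Spor.coxRelators Spor.Fi22.edges ∪ {r | r ∈ Spor.Fi22.extra}) (FreeGroup.of z)

theorem cox_pow (x y : Spor.Fi22.Gen) (hx : x ∈ Spor.coxNodes Spor.Fi22.edges)
    (hy : y ∈ Spor.coxNodes Spor.Fi22.edges) :
    (genImg x * genImg y) ^ Spor.coxLabel Spor.Fi22.edges x y = 1 := by
  rw [← map_mul, ← map_pow]
  exact PresentedGroup.one_of_mem (Or.inl ⟨x, hx, y, hy, rfl⟩)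

theorem mem_nodes (x : Spor.Fi22.Gen) : x ∈ Spor.coxNodes Spor.Fi22.edges := by
  cases x <;> decide

theorem gen_sq (x : Spor.Fi22.Gen) : genImg x * genImg x = 1 := by
  have h := cox_pow x x (mem_nodes x) (mem_nodes x)
  simpa [Spor.coxLabel] using h

theorem isConj_edge (x y : Spor.Fi22.Gen) (h : Spor.coxLabel Spor.Fi22.edges x y = 3) :
    IsConj (genImg x) (genImg y) :=
  isConj_of_cube (gen_sq x) (gen_sq y) (h ▸ cox_pow x y (mem_nodes x) (mem_nodes y))

theorem isConj_gen (x : Spor.Fi22.Gen) : IsConj (genImg .a) (genImg x) := by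
  have hb := isConj_edge .a .b (by decide)
  have hc := hb.trans (isConj_edge .b .c (by decide))
  have hd := hc.trans (isConj_edge .c .d (by decide))
  have he := hd.trans (isConj_edge .d .e (by decide))
  have hf := he.trans (isConj_edge .e .f (by decide))
  have hh := hd.trans (isConj_edge .d .h (by decide))
  cases x
  exacts [IsConj.refl _, hb, hc, hd, he, hf, hf.trans (isConj_edge .f .g (by decide)), hh,
    hh.trans (isConj_edge .h .i (by decide))]

theorem exists_omegaSeven {G : Type*} [Group G] [Finite G] {D : Set G} (e : G ≃* Spor.Fi22)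
    (he : e '' D = conjugatesOf (genImg .a)) :
    ∃ L : Subgroup G, IsDSubgroup D L ∧
      Nonempty (↥L ≃* POmega (ZMod 3) (quadFormOdd 3 (ZMod 3))) ∧
      ∀ P : Sylow 3 ↥L, ∃ P' : Sylow 3 G, (P : Subgroup ↥L).map L.subtype = (P' : Subgroup G) := by
  haveI : Fact (Nat.Prime 3) := ⟨Nat.prime_three⟩
  set K : Subgroup Spor.Fi22 := ((Subgroup.closure ({Spor.Fi22.b, Spor.Fi22.c, Spor.Fi22.d,
    Spor.Fi22.e, Spor.Fi22.f, Spor.Fi22.g, Spor.Fi22.h, Spor.Fi22.i} : Set (FreeGroup Spor.Fi22.Gen))).map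
    (PresentedGroup.mk (Spor.coxRelators Spor.Fi22.edges ∪ {r | r ∈ Spor.Fi22.extra}))) with hK
  obtain ⟨iso⟩ : Nonempty (↥K ≃* POmega (ZMod 3) (quadFormOdd 3 (ZMod 3))) := Cfsg.Agent.S1686.result
  have hidx : K.index = 14080 := Cfsg.Agent.S1685.result
  set L : Subgroup G := K.map e.symm.toMonoidHom with hL
  have hLcl : L = Subgroup.closure
      ((fun x => e.symm (PresentedGroup.mk _ x)) '' ({Spor.Fi22.b, Spor.Fi22.c, Spor.Fi22.d,
        Spor.Fi22.e, Spor.Fi22.f, Spor.Fi22.g, Spor.Fi22.h, Spor.Fi22.i} :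
          Set (FreeGroup Spor.Fi22.Gen))) := by
    rw [hL, hK, Subgroup.map_map, MonoidHom.map_closure]
    rfl
  refine ⟨L, ?_, ⟨((K.equivMapOfInjective _ e.symm.injective).symm).trans iso⟩, fun P => ?_⟩
  · refine le_antisymm ((Subgroup.closure_le _).2 fun x hx => hx.2) ?_
    refine le_trans hLcl.le ((Subgroup.closure_le _).2 ?_)
    rintro _ ⟨w, hw, rfl⟩
    refine Subgroup.subset_closure ⟨?_, ?_⟩
    · obtain ⟨z, rfl⟩ : ∃ z, w = FreeGroup.of z := by
        simp only [Set.mem_insert_iff, Set.mem_singleton_iff] at hw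
        rcases hw with rfl | rfl | rfl | rfl | rfl | rfl | rfl | rfl <;> exact ⟨_, rfl⟩
      obtain ⟨x, hx, hxz⟩ : genImg z ∈ e '' D := he ▸ isConj_gen z
      have : e.symm (genImg z) = x := by rw [← hxz, MulEquiv.symm_apply_apply]
      show e.symm (genImg z) ∈ D
      rw [this]
      exact hx
    · exact ⟨_, ⟨w, Subgroup.subset_closure hw, rfl⟩, rfl⟩
  · have hnd : ¬ 3 ∣ L.index := by
      rw [hL, Subgroup.index_map_of_bijective (f := e.symm.toMonoidHom) e.symm.bijective K, hidx]
      decide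
    have hcard : Nat.card ↥((P : Subgroup ↥L).map L.subtype) =
        3 ^ (Nat.card G).factorization 3 := by
      rw [Subgroup.card_map_of_injective L.subtype_injective, P.card_eq_multiplicity,
        ← L.card_mul_index, Nat.factorization_mul Nat.card_pos.ne' Subgroup.index_ne_zero_of_finite,
        Finsupp.add_apply, Nat.factorization_eq_zero_of_not_dvd hnd, add_zero]
    exact ⟨Sylow.ofCard _ hcard, (Sylow.coe_ofCard _ hcard).symm⟩

end Cfsg.Agent.Lib.Fischer3T25
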